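import Groth.Agent.GLatRes.Perm

/-! Permutation covers which are surjective on all fixed submodules, and flasque embeddings. -/

set_option autoImplicit false

open GLat

namespace Groth.Agent.GLatRes

variable {G : Type} [Group G]

/-- The submodule fixed by `H`. -/
def fixedSub {M : Type*} [AddCommGroup M] (ρ : Representation ℤ G M) (H : Subgroup G) :
    Submodule ℤ M :=
  ⨅ h : H, LinearMap.ker (ρ (h : G) - LinearMap.id)

theorem mem_fixedSub {M : Type*} [AddCommGroup M] {ρ : Representation ℤ G M} {H : Subgroup G}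
    {m : M} : m ∈ fixedSub ρ H ↔ ∀ h : H, ρ (h : G) m = m := by
  simp [fixedSub, sub_eq_zero]

theorem exists_perm_cover [Finite G] {M : Type*} [AddCommGroup M] [Module.Finite ℤ M]
    (ρ : Representation ℤ G M) :
    ∃ (X : Type) (_ : MulAction G X) (_ : Finite X) (π : (X →₀ ℤ) →ₗ[ℤ] M),
      IsEquivariant (permRep G X) ρ π ∧ Function.Surjective π ∧
      ∀ (H : Subgroup G) (a : M), (∀ h : H, ρ (h : G) a = a) →
        ∃ p : X →₀ ℤ, (∀ h : H, permRep G X (h : G) p = p) ∧ π p = a := by
  have hfg : ∀ H : Subgroup G, ∃ (n : ℕ) (s : Fin n → M),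
      Submodule.span ℤ (Set.range s) = fixedSub ρ H := fun H =>
    Submodule.fg_iff_exists_fin_generating_family.mp (IsNoetherian.noetherian _)
  choose n s hs using hfg
  let J : Type := Σ H : Subgroup G, Fin (n H)
  let X : Type := Σ j : J, G ⧸ j.1
  have hfix : ∀ (j : J) (h : j.1), ρ (h : G) (s j.1 j.2) = s j.1 j.2 := fun j =>
    mem_fixedSub.mp (hs j.1 ▸ Submodule.subset_span (Set.mem_range_self j.2))
  let v : X → M := fun x => Quotient.liftOn' x.2 (fun g => ρ g (s x.1.1 x.1.2))
    (fun a b hab => by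
      have h : a⁻¹ * b ∈ x.1.1 := QuotientGroup.leftRel_apply.mp hab
      conv_rhs => rw [← mul_inv_cancel_left a b, rho_mul_apply, hfix x.1 ⟨_, h⟩])
  have hv : ∀ (g : G) (x : X), v (g • x) = ρ g (v x) := by
    rintro g ⟨j, q⟩
    induction q using QuotientGroup.induction_on with
    | H b => exact rho_mul_apply ρ g b _
  let π : (X →₀ ℤ) →ₗ[ℤ] M := Finsupp.linearCombination ℤ v
  have hπ : IsEquivariant (permRep G X) ρ π := fun g m => by
    induction m using Finsupp.induction_linear with
    | zero => simp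
    | add a b ha hb => simp [ha, hb]
    | single x c => simp [π, permRep_single, hv]
  let P0 : Subgroup G → Submodule ℤ (X →₀ ℤ) := fun H => fixedSub (permRep G X) H
  have hlift : ∀ H, fixedSub ρ H ≤ (P0 H).map π := fun H => by
    rw [← hs H, Submodule.span_le]
    rintro _ ⟨i, rfl⟩
    refine ⟨Finsupp.single (⟨⟨H, i⟩, ((1 : G) : G ⧸ H)⟩ : X) 1, ?_, ?_⟩
    · refine mem_fixedSub.mpr fun h => ?_
      have : (h : G) • (⟨⟨H, i⟩, ((1 : G) : G ⧸ H)⟩ : X) = ⟨⟨H, i⟩, ((1 : G) : G ⧸ H)⟩ := by
        rw [Sigma.smul_mk]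
        refine congrArg (Sigma.mk _) ?_
        exact QuotientGroup.eq.mpr (by simp)
      rw [permRep_single, this]
    · simp only [π, Finsupp.linearCombination_single, one_smul]
      change ρ 1 (s H i) = s H i
      simp
  refine ⟨X, inferInstance, inferInstance, π, hπ, fun a => ?_, fun H a ha => ?_⟩
  · obtain ⟨p, -, hp⟩ := hlift ⊥ (mem_fixedSub.mpr fun h => by
      rw [Subgroup.mem_bot.mp h.2, map_one]; rfl : a ∈ fixedSub ρ ⊥)
    exact ⟨p, hp⟩
  · obtain ⟨p, hp, hpa⟩ := hlift H (mem_fixedSub.mpr ha)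
    exact ⟨p, mem_fixedSub.mp hp, hpa⟩

/-- The restriction of a representation to an invariant submodule given as a kernel. -/
def kerRep {M N : Type*} [AddCommGroup M] [AddCommGroup N] {ρ : Representation ℤ G M}
    {σ : Representation ℤ G N} {f : M →ₗ[ℤ] N} (hf : IsEquivariant ρ σ f) :
    Representation ℤ G (LinearMap.ker f) where
  toFun g := (ρ g).restrict fun m hm => by
    rw [LinearMap.mem_ker] at hm ⊢
    rw [hf, hm, map_zero]
  map_one' := by
    refine LinearMap.ext fun x => Subtype.ext ?_
    simp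
  map_mul' a b := by
    refine LinearMap.ext fun x => Subtype.ext ?_
    simp

theorem exists_coflasque_cover [Finite G] (A : Type) [AddCommGroup A] [Module.Finite ℤ A]
    (ρ : Representation ℤ G A) :
    ∃ (Q : Type) (_ : AddCommGroup Q) (P : Type) (_ : AddCommGroup P)
      (_ : Module.Finite ℤ Q) (_ : Module.Free ℤ Q) (_ : Module.Finite ℤ P) (_ : Module.Free ℤ P)
      (σ : Representation ℤ G Q) (τ : Representation ℤ G P) (i : Q →ₗ[ℤ] P) (π : P →ₗ[ℤ] A),
      IsEquivariant σ τ i ∧ IsEquivariant τ ρ π ∧ Function.Injective i ∧ Function.Surjective π ∧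
      LinearMap.range i = LinearMap.ker π ∧ IsPermutation τ ∧ IsCoflasque σ := by
  obtain ⟨X, _, _, π, hπ, hs, hlift⟩ := exists_perm_cover ρ
  let K := LinearMap.ker π
  refine ⟨K, inferInstance, (X →₀ ℤ), inferInstance, inferInstance, inferInstance, inferInstance,
    inferInstance, kerRep hπ, permRep G X, K.subtype, π, fun g m => rfl, hπ,
    Subtype.val_injective, hs, Submodule.range_subtype _, isPermutation_permRep, ?_⟩
  intro H f hf
  obtain ⟨p, hp⟩ := isCoflasque_permRep H (fun a => (f a : X →₀ ℤ))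
    (fun a b => congrArg Subtype.val (hf a b))
  obtain ⟨p', hfix, hp'⟩ := hlift H (π p) (fun a => by
    have := (f a).2
    rw [LinearMap.mem_ker, hp, map_sub, hπ, sub_eq_zero] at this
    exact this)
  have hk : p - p' ∈ K := by
    rw [LinearMap.mem_ker, map_sub, hp', sub_self]
  refine ⟨⟨p - p', hk⟩, fun a => Subtype.ext ?_⟩
  change (f a : X →₀ ℤ) = permRep G X (a : G) (p - p') - (p - p')
  rw [hp, map_sub, hfix a]
  abel

/-- The pairing of two elements of `X →₀ ℤ`. -/
noncomputable def pairing {X : Type} (p : X →₀ ℤ) : (X →₀ ℤ) →ₗ[ℤ] ℤ :=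
  Finsupp.linearCombination ℤ (fun x => p x)

theorem pairing_perm {X : Type} [MulAction G X] (g : G) (p c : X →₀ ℤ) :
    pairing (permRep G X g p) (permRep G X g c) = pairing p c := by
  induction c using Finsupp.induction_linear with
  | zero => simp
  | add a b ha hb => simp [ha, hb]
  | single x n => simp [pairing, permRep_single, permRep_apply]

theorem pairing_add_left {X : Type} (p q c : X →₀ ℤ) :
    pairing (p + q) c = pairing p c + pairing q c := by
  induction c using Finsupp.induction_linear with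
  | zero => simp
  | add a b ha hb => simp [ha, hb]; ring
  | single x n => simp [pairing, mul_add]

/-- The pairing, linear in the first variable. -/
noncomputable def pairingLeft {X : Type} (c : X →₀ ℤ) : (X →₀ ℤ) →ₗ[ℤ] ℤ :=
  AddMonoidHom.toIntLinearMap (AddMonoidHom.mk' (fun p => pairing p c)
    (fun p q => pairing_add_left p q c))

theorem mem_range_nrm {A : Type*} [AddCommGroup A] [Module.Finite ℤ A] [Module.Free ℤ A]
    (ρ : Representation ℤ G A) (H : Subgroup G) [Fintype H] {a : A}
    (ha : ∀ h : H, ρ (h : G) a = a)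
    (hdiv : ∀ φ : A →ₗ[ℤ] ℤ, (∀ (h : H) (x : A), φ (ρ (h : G) x) = φ x) →
      (Fintype.card H : ℤ) ∣ φ a) :
    a ∈ LinearMap.range (nrm ρ H) := by
  set N := LinearMap.range (nrm ρ H)
  let b := Module.Free.chooseBasis ℤ N
  let e : A →ₗ[ℤ] N := (nrm ρ H).rangeRestrict
  have he : ∀ (h : H) (x : A), e (ρ (h : G) x) = e x := fun h x => Subtype.ext (nrm_rho ρ H h x)
  have hea : (e a : A) = (Fintype.card H : ℤ) • a := by
    change nrm ρ H a = _
    rw [nrm_apply, Finset.sum_congr rfl (fun h _ => ha h), Finset.sum_const, Finset.card_univ,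
      natCast_zsmul]
  have hk : ∀ k, (Fintype.card H : ℤ) ∣ b.coord k (e a) := fun k =>
    hdiv ((b.coord k).comp e) (fun h x => by simp [he])
  choose c hc using hk
  have heq : (e a : A) = (Fintype.card H : ℤ) • ((∑ k, c k • b k : N) : A) := by
    rw [← Submodule.coe_smul, Finset.smul_sum]
    congr 1
    conv_lhs => rw [← b.sum_repr (e a)]
    exact Finset.sum_congr rfl fun k _ => by
      rw [smul_smul, ← hc k]; rfl
  rw [hea] at heq
  rw [smul_right_injective A (Int.natCast_ne_zero.mpr Fintype.card_ne_zero) heq]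
  exact Submodule.coe_mem _

theorem exists_flasque_embedding [Finite G] (A : Type) [AddCommGroup A] [Module.Finite ℤ A]
    [Module.Free ℤ A] (ρ : Representation ℤ G A) :
    ∃ (P : Type) (_ : AddCommGroup P) (F : Type) (_ : AddCommGroup F)
      (_ : Module.Finite ℤ P) (_ : Module.Free ℤ P) (_ : Module.Finite ℤ F) (_ : Module.Free ℤ F)
      (σ : Representation ℤ G P) (τ : Representation ℤ G F) (i : A →ₗ[ℤ] P) (π : P →ₗ[ℤ] F),
      IsEquivariant ρ σ i ∧ IsEquivariant σ τ π ∧ Function.Injective i ∧ Function.Surjective π ∧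
      LinearMap.range i = LinearMap.ker π ∧ IsPermutation σ ∧ IsFlasque τ := by
  obtain ⟨X, _, _, q, hq, hqs, hlift⟩ := exists_perm_cover ρ.dual
  have := Fintype.ofFinite X
  let i : A →ₗ[ℤ] (X →₀ ℤ) := (Finsupp.linearEquivFunOnFinite ℤ ℤ X).symm.toLinearMap ∘ₗ
    LinearMap.pi fun x => q (Finsupp.single x 1)
  have hi : ∀ a x, i a x = q (Finsupp.single x 1) a := fun a x => by simp [i]
  have hpair : ∀ a c, pairing (i a) c = q c a := fun a c => by
    induction c using Finsupp.induction_linear with
    | zero => simp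
    | add u w hu hw => simp [hu, hw]
    | single x n =>
      have : Finsupp.single x n = n • Finsupp.single x (1 : ℤ) := by simp
      rw [this, map_smul, map_smul, LinearMap.smul_apply]
      simp [pairing, hi]
  have heq : IsEquivariant ρ (permRep G X) i := fun g a => by
    ext x
    rw [permRep_apply, hi, hi, ← permRep_single (G := G), hq]
    simp [Module.Dual.transpose_apply]
  let b := Module.Free.chooseBasis ℤ A
  choose c hc using fun k => hqs (b.coord k)
  let r : (X →₀ ℤ) →ₗ[ℤ] A := ∑ k, (pairingLeft (c k)).smulRight (b k)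
  have hr : ∀ a, r (i a) = a := fun a => by
    conv_rhs => rw [← b.sum_repr a]
    simp [r, pairingLeft, hpair, hc]
  have hinj : Function.Injective i := fun a a' h => by rw [← hr a, h, hr]
  let R := LinearMap.range i
  let F := (X →₀ ℤ) ⧸ R
  have hinv : ∀ g, R ≤ R.comap (permRep G X g) := by
    rintro g _ ⟨a, rfl⟩
    exact ⟨ρ g a, heq g a⟩
  let τ : Representation ℤ G F :=
    { toFun := fun g => R.mapQ R (permRep G X g) (hinv g)
      map_one' := Submodule.linearMap_qext _ (LinearMap.ext fun x => by simp)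
      map_mul' := fun g g' => Submodule.linearMap_qext _ (LinearMap.ext fun x => by simp) }
  have hπ : IsEquivariant (permRep G X) τ R.mkQ := fun g m => rfl
  have htf : Module.IsTorsionFree ℤ F := by
    refine .of_smul_eq_zero fun z m hm => ?_
    obtain ⟨m, rfl⟩ := Submodule.Quotient.mk_surjective _ m
    rw [or_iff_not_imp_left]
    intro hz
    rw [← Submodule.Quotient.mk_smul, Submodule.Quotient.mk_eq_zero] at hm
    obtain ⟨a, ha⟩ := hm
    rw [Submodule.Quotient.mk_eq_zero]
    refine ⟨r m, smul_right_injective _ hz ?_⟩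
    change z • i (r m) = z • m
    rw [← map_smul, ← map_smul, ← ha, hr]
  refine ⟨(X →₀ ℤ), inferInstance, F, inferInstance, inferInstance, inferInstance, inferInstance,
    Module.free_of_finite_type_torsion_free', permRep G X, τ, i, R.mkQ, heq, hπ, hinj,
    Submodule.mkQ_surjective _, (Submodule.ker_mkQ _).symm, isPermutation_permRep, ?_⟩
  rw [isFlasque_iff]
  intro H _ mb hmb
  obtain ⟨m, rfl⟩ := Submodule.mkQ_surjective _ mb
  rw [← map_nrm hπ, Submodule.mkQ_apply, Submodule.Quotient.mk_eq_zero] at hmb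
  obtain ⟨a, ha⟩ := hmb
  have hafix : ∀ h : H, ρ (h : G) a = a := fun h => hinj (by rw [heq, ha, rho_nrm])
  obtain ⟨a', rfl⟩ := mem_range_nrm ρ H hafix (fun φ hφ => by
    obtain ⟨p, hp, rfl⟩ := hlift H φ (fun h => LinearMap.ext fun x => hφ h⁻¹ x)
    have hh : ∀ h : H, pairing (permRep G X (h : G) m) p = pairing m p := fun h => by
      conv_lhs => rw [← hp h]
      rw [pairing_perm]
    refine ⟨pairing m p, ?_⟩
    rw [← hpair, ha, nrm_apply]
    change pairingLeft p _ = _
    rw [map_sum]
    change ∑ h : H, pairing (permRep G X (h : G) m) p = _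
    simp [hh])
  rw [map_nrm heq] at ha
  have hflas := (isFlasque_iff (permRep G X)).mp isFlasque_permRep H (m - i a')
    (by rw [map_sub, ha, sub_self])
  have := map_mem_aug hπ H hflas
  rwa [map_sub, show R.mkQ (i a') = 0 from (Submodule.Quotient.mk_eq_zero _).mpr ⟨a', rfl⟩,
    sub_zero] at this

end Groth.Agent.GLatRes
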