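import Groth.Agent.GLatRes.Cover

/-! Coflasque resolutions by pullback and flasque covers by pushout. -/

set_option autoImplicit false

open GLat

namespace Groth.Agent.GLatRes

variable {G : Type} [Group G]

/-- The product representation. -/
def prodRep {M N : Type*} [AddCommGroup M] [AddCommGroup N] (ρ : Representation ℤ G M)
    (σ : Representation ℤ G N) : Representation ℤ G (M × N) where
  toFun g := (ρ g).prodMap (σ g)
  map_one' := by ext <;> simp
  map_mul' a b := by ext <;> simp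

theorem prodRep_apply {M N : Type*} [AddCommGroup M] [AddCommGroup N] (ρ : Representation ℤ G M)
    (σ : Representation ℤ G N) (g : G) (x : M × N) :
    prodRep ρ σ g x = (ρ g x.1, σ g x.2) := rfl

theorem IsPermutation.isCoflasque {M : Type} [AddCommGroup M] [Module.Finite ℤ M] [Finite G]
    {ρ : Representation ℤ G M} (h : IsPermutation ρ) : IsCoflasque ρ := by
  obtain ⟨ι, b, hb⟩ := h
  choose f hf using hb
  let _ : MulAction G ι :=
    { smul := f
      one_smul := fun i => b.injective ((hf 1 i).symm.trans (by simp))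
      mul_smul := fun a c i => b.injective ((hf (a * c) i).symm.trans (by
        rw [rho_mul_apply, hf, hf]; rfl)) }
  have : Finite ι := Module.Finite.finite_basis b
  have he : ∀ g (x : ι →₀ ℤ), b.repr.symm (permRep G ι g x) = ρ g (b.repr.symm x) := fun g x => by
    induction x using Finsupp.induction_linear with
    | zero => simp
    | add u w hu hw => simp only [map_add, hu, hw]
    | single i c =>
      rw [permRep_single, b.repr_symm_single, b.repr_symm_single, (ρ g).map_smul, hf]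
      rfl
  intro H φ hφ
  obtain ⟨m, hm⟩ := isCoflasque_permRep (G := G) H (fun a => b.repr (φ a)) (fun u w => by
    rw [hφ, map_add]
    refine congrArg _ (b.repr.symm.injective ?_)
    rw [he, b.repr.symm_apply_apply, b.repr.symm_apply_apply])
  refine ⟨b.repr.symm m, fun a => b.repr.injective ?_⟩
  rw [hm, ← he, map_sub, b.repr.apply_symm_apply, b.repr.apply_symm_apply]

theorem IsPermutation.isFlasque {M : Type} [AddCommGroup M] [Finite G]
    {ρ : Representation ℤ G M} (h : IsPermutation ρ) : IsFlasque ρ := by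
  obtain ⟨ι, b, hb⟩ := h
  choose f hf using hb
  let _ : MulAction G ι :=
    { smul := f
      one_smul := fun i => b.injective ((hf 1 i).symm.trans (by simp))
      mul_smul := fun a c i => b.injective ((hf (a * c) i).symm.trans (by
        rw [rho_mul_apply, hf, hf]; rfl)) }
  have he : IsEquivariant (permRep G ι) ρ b.repr.symm.toLinearMap := fun g x => by
    induction x using Finsupp.induction_linear with
    | zero => simp
    | add u w hu hw => simp only [map_add, hu, hw]
    | single i c =>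
      simp only [LinearEquiv.coe_coe]
      rw [permRep_single, b.repr_symm_single, b.repr_symm_single, (ρ g).map_smul, hf]
      rfl
  rw [isFlasque_iff]
  intro H _ m hm
  obtain ⟨x, rfl⟩ := b.repr.symm.surjective m
  exact map_mem_aug he H ((isFlasque_iff _).mp isFlasque_permRep H x
    (b.repr.symm.injective (by rw [map_zero, ← hm]; exact map_nrm he H x)))

theorem exists_coflasque_resolution [Finite G] (A : Type) [AddCommGroup A] [Module.Finite ℤ A]
    [Module.Free ℤ A] (ρ : Representation ℤ G A) :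
    ∃ (Q : Type) (_ : AddCommGroup Q) (P : Type) (_ : AddCommGroup P)
      (_ : Module.Finite ℤ Q) (_ : Module.Free ℤ Q) (_ : Module.Finite ℤ P) (_ : Module.Free ℤ P)
      (σ : Representation ℤ G Q) (τ : Representation ℤ G P) (i : A →ₗ[ℤ] Q) (π : Q →ₗ[ℤ] P),
      IsEquivariant ρ σ i ∧ IsEquivariant σ τ π ∧ Function.Injective i ∧ Function.Surjective π ∧
      LinearMap.range i = LinearMap.ker π ∧ IsCoflasque σ ∧ IsPermutation τ := by
  obtain ⟨P0, _, F, _, _, _, _, _, σ0, τF, i0, π0, hi0, hπ0, hi0j, hπ0s, hex0, hP0, -⟩ :=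
    exists_flasque_embedding A ρ
  obtain ⟨Q1, _, P1, _, _, _, _, _, σ1, τ1, i1, π1, hi1, hπ1, hi1j, hπ1s, hex1, hP1, hQ1⟩ :=
    exists_coflasque_cover F τF
  let d : P0 × P1 →ₗ[ℤ] F := π0 ∘ₗ LinearMap.fst ℤ P0 P1 - π1 ∘ₗ LinearMap.snd ℤ P0 P1
  have hd : IsEquivariant (prodRep σ0 τ1) τF d := fun g x => by
    simp [d, prodRep_apply, hπ0 g, hπ1 g]
  have h0 : ∀ a, π0 (i0 a) = 0 := fun a => LinearMap.mem_ker.mp (hex0 ▸ LinearMap.mem_range_self _ a)
  have h1 : ∀ a, π1 (i1 a) = 0 := fun a => LinearMap.mem_ker.mp (hex1 ▸ LinearMap.mem_range_self _ a)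
  let E := LinearMap.ker d
  let iA : A →ₗ[ℤ] E := ((LinearMap.inl ℤ P0 P1).comp i0).codRestrict E fun a => by
    simp [E, d, h0]
  let pr : E →ₗ[ℤ] P1 := (LinearMap.snd ℤ P0 P1).comp E.subtype
  let jQ : Q1 →ₗ[ℤ] E := ((LinearMap.inr ℤ P0 P1).comp i1).codRestrict E fun a => by
    simp [E, d, h1]
  let pr0 : E →ₗ[ℤ] P0 := (LinearMap.fst ℤ P0 P1).comp E.subtype
  have hmem : ∀ x : E, π0 x.1.1 = π1 x.1.2 := fun x =>
    sub_eq_zero.mp (LinearMap.mem_ker.mp x.2)
  refine ⟨E, inferInstance, P1, inferInstance, inferInstance, inferInstance, inferInstance,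
    inferInstance, kerRep hd, τ1, iA, pr, fun g a => Subtype.ext ?_, fun g x => rfl,
    fun a a' h => hi0j (congrArg (fun x : E => x.1.1) h), fun p => ?_, ?_, ?_, hP1⟩
  · exact Prod.ext (hi0 g a) (map_zero (τ1 g)).symm
  · obtain ⟨p0, hp0⟩ := hπ0s (π1 p)
    exact ⟨⟨(p0, p), by simp [E, d, hp0]⟩, rfl⟩
  · ext x
    constructor
    · rintro ⟨a, rfl⟩; rfl
    · intro hx
      have hx' : x.1.2 = 0 := hx
      have : x.1.1 ∈ LinearMap.range i0 := by
        rw [hex0, LinearMap.mem_ker, hmem, hx', map_zero]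
      obtain ⟨a, ha⟩ := this
      exact ⟨a, Subtype.ext (Prod.ext ha hx'.symm)⟩
  · refine isCoflasque_extension (j := jQ) (q := pr0) (fun g a => Subtype.ext ?_) (fun g x => rfl)
      (fun a a' h => hi1j (congrArg (fun x : E => x.1.2) h)) (fun p => ?_) ?_ hQ1
      (IsPermutation.isCoflasque hP0)
    · exact Prod.ext (map_zero (σ0 g)).symm (hi1 g a)
    · obtain ⟨p1, hp1⟩ := hπ1s (π0 p)
      exact ⟨⟨(p, p1), by simp [E, d, hp1]⟩, rfl⟩
    · ext x
      constructor
      · rintro ⟨a, rfl⟩; rfl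
      · intro hx
        have hx' : x.1.1 = 0 := hx
        have : x.1.2 ∈ LinearMap.range i1 := by
          rw [hex1, LinearMap.mem_ker, ← hmem, hx', map_zero]
        obtain ⟨a, ha⟩ := this
        exact ⟨a, Subtype.ext (Prod.ext hx'.symm ha)⟩

theorem exists_flasque_cover [Finite G] (A : Type) [AddCommGroup A] [Module.Finite ℤ A]
    (ρ : Representation ℤ G A) :
    ∃ (P : Type) (_ : AddCommGroup P) (F : Type) (_ : AddCommGroup F)
      (_ : Module.Finite ℤ P) (_ : Module.Free ℤ P) (_ : Module.Finite ℤ F) (_ : Module.Free ℤ F)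
      (σ : Representation ℤ G P) (τ : Representation ℤ G F) (i : P →ₗ[ℤ] F) (π : F →ₗ[ℤ] A),
      IsEquivariant σ τ i ∧ IsEquivariant τ ρ π ∧ Function.Injective i ∧ Function.Surjective π ∧
      LinearMap.range i = LinearMap.ker π ∧ IsPermutation σ ∧ IsFlasque τ := by
  obtain ⟨Q, _, P1, _, _, _, _, _, σQ, τ1, i1, π1, hi1, hπ1, hi1j, hπ1s, hex1, hP1, -⟩ :=
    exists_coflasque_cover A ρ
  obtain ⟨P0, _, F0, _, _, _, _, _, σ0, τ0, i0, π0, hi0, hπ0, hi0j, hπ0s, hex0, hP0, hF0⟩ :=
    exists_flasque_embedding Q σQ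
  let R := LinearMap.range (i0.prod (-i1))
  let E := (P0 × P1) ⧸ R
  have hinv : ∀ g, R ≤ R.comap (prodRep σ0 τ1 g) := by
    rintro g _ ⟨a, rfl⟩
    exact ⟨σQ g a, Prod.ext (hi0 g a) (by simp [prodRep_apply, hi1 g a])⟩
  let τ : Representation ℤ G E :=
    { toFun := fun g => R.mapQ R (prodRep σ0 τ1 g) (hinv g)
      map_one' := Submodule.linearMap_qext _ (LinearMap.ext fun x => by simp)
      map_mul' := fun g g' => Submodule.linearMap_qext _ (LinearMap.ext fun x => by simp) }
  have h1 : ∀ a, π1 (i1 a) = 0 := fun a => LinearMap.mem_ker.mp (hex1 ▸ LinearMap.mem_range_self _ a)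
  have h0 : ∀ a, π0 (i0 a) = 0 := fun a => LinearMap.mem_ker.mp (hex0 ▸ LinearMap.mem_range_self _ a)
  let jP0 : P0 →ₗ[ℤ] E := R.mkQ ∘ₗ LinearMap.inl ℤ P0 P1
  let jP1 : P1 →ₗ[ℤ] E := R.mkQ ∘ₗ LinearMap.inr ℤ P0 P1
  let qA : E →ₗ[ℤ] A := R.liftQ (π1 ∘ₗ LinearMap.snd ℤ P0 P1) (by
    rintro _ ⟨a, rfl⟩; simp [h1])
  let qF : E →ₗ[ℤ] F0 := R.liftQ (π0 ∘ₗ LinearMap.fst ℤ P0 P1) (by
    rintro _ ⟨a, rfl⟩; simp [h0])
  have hjP0 : IsEquivariant σ0 τ jP0 := fun g p => by
    change R.mkQ (σ0 g p, 0) = R.mkQ (σ0 g p, τ1 g 0)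
    rw [map_zero]
  have hjP1 : IsEquivariant τ1 τ jP1 := fun g p => by
    change R.mkQ (0, τ1 g p) = R.mkQ (σ0 g 0, τ1 g p)
    rw [map_zero]
  have hqA : IsEquivariant τ ρ qA := fun g x => by
    obtain ⟨x, rfl⟩ := R.mkQ_surjective x
    exact hπ1 g x.2
  have hqF : IsEquivariant τ τ0 qF := fun g x => by
    obtain ⟨x, rfl⟩ := R.mkQ_surjective x
    exact hπ0 g x.1
  have hj0 : Function.Injective jP0 := by
    refine (injective_iff_map_eq_zero jP0).mpr fun p hp => ?_
    obtain ⟨a, ha⟩ := (Submodule.Quotient.mk_eq_zero _).mp hp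
    simp only [LinearMap.prod_apply, Function.prod, LinearMap.neg_apply, LinearMap.inl_apply,
      Prod.mk.injEq, neg_eq_zero] at ha
    rw [← ha.1, hi1j (ha.2.trans (map_zero i1).symm), map_zero]
  have hj1 : Function.Injective jP1 := by
    refine (injective_iff_map_eq_zero jP1).mpr fun p hp => ?_
    obtain ⟨a, ha⟩ := (Submodule.Quotient.mk_eq_zero _).mp hp
    simp only [LinearMap.prod_apply, Function.prod, LinearMap.neg_apply, LinearMap.inr_apply,
      Prod.mk.injEq] at ha
    rw [← ha.2, hi0j (ha.1.trans (map_zero i0).symm), map_zero, neg_zero]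
  have hsA : Function.Surjective qA := fun a => by
    obtain ⟨p, rfl⟩ := hπ1s a
    exact ⟨jP1 p, rfl⟩
  have hsF : Function.Surjective qF := fun a => by
    obtain ⟨p, rfl⟩ := hπ0s a
    exact ⟨jP0 p, rfl⟩
  have hexA : LinearMap.range jP0 = LinearMap.ker qA := by
    refine le_antisymm ?_ fun x hx => ?_
    · rintro _ ⟨p, rfl⟩; exact map_zero π1
    · obtain ⟨⟨p0, p1⟩, rfl⟩ := R.mkQ_surjective x
      have hx' : π1 p1 = 0 := hx
      obtain ⟨q, rfl⟩ : p1 ∈ LinearMap.range i1 := by rw [hex1]; exact hx'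
      refine ⟨p0 + i0 q, (Submodule.Quotient.eq R).mpr ⟨q, ?_⟩⟩
      simp
  have hexF : LinearMap.range jP1 = LinearMap.ker qF := by
    refine le_antisymm ?_ fun x hx => ?_
    · rintro _ ⟨p, rfl⟩; exact map_zero π0
    · obtain ⟨⟨p0, p1⟩, rfl⟩ := R.mkQ_surjective x
      have hx' : π0 p0 = 0 := hx
      obtain ⟨q, rfl⟩ : p0 ∈ LinearMap.range i0 := by rw [hex0]; exact hx'
      refine ⟨p1 + i1 q, (Submodule.Quotient.eq R).mpr ⟨-q, ?_⟩⟩
      simp
  have htf : Module.IsTorsionFree ℤ E := by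
    refine .of_smul_eq_zero fun z x hx => ?_
    rw [or_iff_not_imp_left]
    intro hz
    have hF : qF x = 0 := by
      have := congrArg qF hx
      rw [map_smul, map_zero] at this
      exact smul_right_injective F0 hz (this.trans (smul_zero z).symm)
    obtain ⟨p, rfl⟩ : x ∈ LinearMap.range jP1 := by rw [hexF]; exact hF
    rw [← map_smul, ← map_zero jP1] at hx
    rw [smul_right_injective P1 hz ((hj1 hx).trans (smul_zero z).symm), map_zero]
  exact ⟨P0, inferInstance, E, inferInstance, inferInstance, inferInstance, inferInstance,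
    Module.free_of_finite_type_torsion_free', σ0, τ, jP0, qA, hjP0, hqA, hj0, hsA, hexA, hP0,
    isFlasque_extension hjP1 hqF hj1 hsF hexF (IsPermutation.isFlasque hP1) hF0⟩

end Groth.Agent.GLatRes
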