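import Groth.Prelude.Def_W4c5flasquetoriphsGLat
import Mathlib

/-! Permutation lattices are flasque and coflasque; extensions of flasque and coflasque modules. -/

set_option autoImplicit false

open GLat

namespace Groth.Agent.GLatRes

variable {G : Type} [Group G]

section Aug

variable {M N : Type*} [AddCommGroup M] [AddCommGroup N]

/-- The augmentation submodule of `M` for the subgroup `H`. -/
abbrev aug (ρ : Representation ℤ G M) (H : Subgroup G) : Submodule ℤ M :=
  Submodule.span ℤ {x : M | ∃ (h : H) (y : M), x = ρ (h : G) y - y}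

/-- The norm of the subgroup `H`. -/
noncomputable def nrm (ρ : Representation ℤ G M) (H : Subgroup G) [Fintype H] : M →ₗ[ℤ] M :=
  ∑ h : H, ρ (h : G)

theorem nrm_apply (ρ : Representation ℤ G M) (H : Subgroup G) [Fintype H] (m : M) :
    nrm ρ H m = ∑ h : H, ρ (h : G) m := LinearMap.sum_apply _ _ _

theorem isFlasque_iff [Finite G] (ρ : Representation ℤ G M) :
    IsFlasque ρ ↔ ∀ (H : Subgroup G) [Fintype H] (m : M), nrm ρ H m = 0 → m ∈ aug ρ H := by
  constructor
  · intro h H _ m hm
    exact h H m (by rw [finsum_eq_sum_of_fintype, ← nrm_apply, hm])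
  · intro h H m hm
    have := Fintype.ofFinite H
    exact h H m (by rw [nrm_apply, ← finsum_eq_sum_of_fintype, hm])

theorem rho_mul_apply (ρ : Representation ℤ G M) (a b : G) (m : M) :
    ρ (a * b) m = ρ a (ρ b m) := by rw [map_mul]; rfl

theorem rho_nrm (ρ : Representation ℤ G M) (H : Subgroup G) [Fintype H] (h : H) (m : M) :
    ρ (h : G) (nrm ρ H m) = nrm ρ H m := by
  rw [nrm_apply, map_sum]
  exact Fintype.sum_equiv (Equiv.mulLeft h) _ _ fun k => (rho_mul_apply ρ h k m).symm

theorem nrm_rho (ρ : Representation ℤ G M) (H : Subgroup G) [Fintype H] (h : H) (m : M) :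
    nrm ρ H (ρ (h : G) m) = nrm ρ H m := by
  rw [nrm_apply, nrm_apply]
  exact Fintype.sum_equiv (Equiv.mulRight h) _ _ fun k => (rho_mul_apply ρ k h m).symm

theorem nrm_eq_zero_of_mem_aug (ρ : Representation ℤ G M) (H : Subgroup G) [Fintype H] {m : M}
    (hm : m ∈ aug ρ H) : nrm ρ H m = 0 := by
  suffices aug ρ H ≤ LinearMap.ker (nrm ρ H) from this hm
  rw [Submodule.span_le]
  rintro x ⟨h, y, rfl⟩
  simp [nrm_rho]

variable {ρ : Representation ℤ G M} {σ : Representation ℤ G N} {f : M →ₗ[ℤ] N}

theorem map_nrm (hf : IsEquivariant ρ σ f) (H : Subgroup G) [Fintype H] (m : M) :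
    f (nrm ρ H m) = nrm σ H (f m) := by
  rw [nrm_apply, nrm_apply, map_sum]
  exact Finset.sum_congr rfl fun h _ => hf _ _

theorem map_mem_aug (hf : IsEquivariant ρ σ f) (H : Subgroup G) {m : M} (hm : m ∈ aug ρ H) :
    f m ∈ aug σ H := by
  suffices aug ρ H ≤ (aug σ H).comap f from this hm
  rw [Submodule.span_le]
  rintro x ⟨h, y, rfl⟩
  exact Submodule.subset_span ⟨h, f y, by rw [map_sub, hf]⟩

theorem exists_aug_lift (hf : IsEquivariant ρ σ f) (hs : Function.Surjective f) (H : Subgroup G)
    {n : N} (hn : n ∈ aug σ H) : ∃ m ∈ aug ρ H, f m = n := by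
  suffices aug σ H ≤ (aug ρ H).map f from this hn
  rw [Submodule.span_le]
  rintro x ⟨h, y, rfl⟩
  obtain ⟨z, rfl⟩ := hs y
  exact ⟨ρ (h : G) z - z, Submodule.subset_span ⟨h, z, rfl⟩, by rw [map_sub, hf]⟩

variable {E : Type*} [AddCommGroup E] {τ : Representation ℤ G E} {j : M →ₗ[ℤ] E} {q : E →ₗ[ℤ] N}

/-- An extension of a flasque module by a flasque module is flasque. -/
theorem isFlasque_extension [Finite G] (hj : IsEquivariant ρ τ j) (hq : IsEquivariant τ σ q)
    (hji : Function.Injective j) (hqs : Function.Surjective q)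
    (hex : LinearMap.range j = LinearMap.ker q) (hM : IsFlasque ρ) (hN : IsFlasque σ) :
    IsFlasque τ := by
  rw [isFlasque_iff] at hM hN ⊢
  intro H _ e he
  obtain ⟨y, hy, hqy⟩ := exists_aug_lift hq hqs H
    (hN H (q e) (by rw [← map_nrm hq, he, map_zero]))
  have hk : e - y ∈ LinearMap.range j := by
    rw [hex, LinearMap.mem_ker, map_sub, hqy, sub_self]
  obtain ⟨p, hp⟩ := hk
  have hp0 : nrm ρ H p = 0 := hji (by
    rw [map_nrm hj, hp, map_sub, he, nrm_eq_zero_of_mem_aug τ H hy, sub_self, map_zero])
  have : e = j p + y := by rw [hp, sub_add_cancel]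
  rw [this]
  exact Submodule.add_mem _ (map_mem_aug hj H (hM H p hp0)) hy

/-- An extension of a coflasque module by a coflasque module is coflasque. -/
theorem isCoflasque_extension (hj : IsEquivariant ρ τ j) (hq : IsEquivariant τ σ q)
    (hji : Function.Injective j) (hqs : Function.Surjective q)
    (hex : LinearMap.range j = LinearMap.ker q) (hM : IsCoflasque ρ) (hN : IsCoflasque σ) :
    IsCoflasque τ := by
  intro H f hf
  obtain ⟨n, hn⟩ := hN H (fun a => q (f a)) (fun a b => by rw [hf, map_add, hq])
  obtain ⟨e, rfl⟩ := hqs n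
  have hmem : ∀ a : H, f a - (τ (a : G) e - e) ∈ LinearMap.range j := fun a => by
    rw [hex, LinearMap.mem_ker, map_sub, map_sub, hq, hn, sub_self]
  choose g hg using hmem
  obtain ⟨m, hm⟩ := hM H g (fun a b => hji (by
    rw [map_add, hj, hg, hg, hg, hf, Subgroup.coe_mul, rho_mul_apply, map_sub, map_sub]
    abel))
  refine ⟨j m + e, fun a => ?_⟩
  have := hg a
  rw [hm, map_sub, hj] at this
  rw [map_add]
  rw [eq_sub_iff_add_eq] at this
  rw [← this]
  abel

end Aug

section Perm

variable {X : Type} [MulAction G X]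

/-- The permutation representation on `X →₀ ℤ`. -/
noncomputable def permRep (G X : Type) [Group G] [MulAction G X] :
    Representation ℤ G (X →₀ ℤ) where
  toFun g := Finsupp.lmapDomain ℤ ℤ (g • ·)
  map_one' := by
    ext x : 2
    simp
  map_mul' a b := by
    ext x : 2
    simp [mul_smul]

theorem permRep_single (g : G) (x : X) (c : ℤ) :
    permRep G X g (Finsupp.single x c) = Finsupp.single (g • x) c :=
  Finsupp.mapDomain_single

theorem permRep_apply (g : G) (m : X →₀ ℤ) (x : X) : permRep G X g m x = m (g⁻¹ • x) := by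
  have h : permRep G X g m (g • (g⁻¹ • x)) = m (g⁻¹ • x) :=
    Finsupp.mapDomain_apply (MulAction.injective g) m _
  rwa [smul_inv_smul] at h

theorem isPermutation_permRep : IsPermutation (permRep G X) :=
  ⟨X, Finsupp.basisSingleOne, fun g x => ⟨g • x, by simp [permRep_single]⟩⟩

theorem isFlasque_permRep [Finite G] : IsFlasque (permRep G X) := by
  rw [isFlasque_iff]
  intro H _ m hm
  let S := MulAction.orbitRel H X
  let φ : (X →₀ ℤ) →ₗ[ℤ] (Quotient S →₀ ℤ) := Finsupp.lmapDomain ℤ ℤ (Quotient.mk S)
  let s : (Quotient S →₀ ℤ) →ₗ[ℤ] (X →₀ ℤ) := Finsupp.lmapDomain ℤ ℤ Quotient.out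
  have hφ : ∀ (h : H), φ ∘ₗ permRep G X (h : G) = φ := fun h => by
    ext x : 2
    have : Quotient.mk S ((h : G) • x) = Quotient.mk S x :=
      Quotient.sound (MulAction.mem_orbit x h)
    simp [φ, permRep_single, this]
  have hφm : ∀ h : H, φ (permRep G X (h : G) m) = φ m := fun h => LinearMap.congr_fun (hφ h) m
  have h0 : φ m = 0 := by
    have := congrArg φ hm
    rw [nrm_apply, map_sum, map_zero,
      Finset.sum_congr rfl (fun h _ => hφm h),
      Finset.sum_const, Finset.card_univ, smul_eq_zero] at this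
    exact this.resolve_left Fintype.card_ne_zero
  have hs : ∀ n : X →₀ ℤ, n - s (φ n) ∈ aug (permRep G X) H := fun n => by
    induction n using Finsupp.induction_linear with
    | zero => simp
    | add a b ha hb =>
      have : a + b - s (φ (a + b)) = (a - s (φ a)) + (b - s (φ b)) := by
        rw [map_add, map_add]; abel
      rw [this]; exact Submodule.add_mem _ ha hb
    | single x c =>
      obtain ⟨h, hh⟩ : ∃ h : H, h • (Quotient.mk S x).out = x := by
        obtain ⟨h, hh⟩ := Quotient.exact (Quotient.out_eq (Quotient.mk S x))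
        refine ⟨h⁻¹, ?_⟩
        rw [← hh]
        exact inv_smul_smul h x
      refine Submodule.subset_span ⟨h, Finsupp.single (Quotient.mk S x).out c, ?_⟩
      rw [permRep_single, show (h : G) • (Quotient.mk S x).out = x from hh]
      simp [φ, s]
  simpa [h0] using hs m

theorem isCoflasque_permRep [Finite G] [Finite X] : IsCoflasque (permRep G X) := by
  intro H f hf
  let S := MulAction.orbitRel H X
  have hval : ∀ (a b : H) (x : X), f (a * b) x = f a x + f b (a⁻¹ • x) := fun a b x => by
    rw [hf, Finsupp.add_apply, permRep_apply]; rfl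
  have hone : ∀ x, f 1 x = 0 := fun x => by
    have := hval 1 1 x
    rw [mul_one, inv_one, one_smul] at this
    linarith
  have hstab : ∀ (r : X) (k : H), k • r = r → f k r = 0 := fun r k hk => by
    have hpow : ∀ n : ℕ, f (k ^ n) r = n * f k r := fun n => by
      induction n with
      | zero => simp [hone]
      | succ n ih =>
        have hn : (k ^ n)⁻¹ • r = r :=
          MulAction.mem_stabilizer_iff.mp
            (inv_mem (pow_mem (MulAction.mem_stabilizer_iff.mpr hk) n))
        rw [pow_succ, hval, ih, hn]; push_cast; ring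
    have := hpow (orderOf k)
    rw [pow_orderOf_eq_one, hone, eq_comm, mul_eq_zero] at this
    exact this.resolve_left (by exact_mod_cast (orderOf_pos k).ne')
  have hrep : ∀ x : X, ∃ h : H, h • (Quotient.mk S x).out = x := fun x => by
    obtain ⟨h, hh⟩ := Quotient.exact (Quotient.out_eq (Quotient.mk S x))
    exact ⟨h⁻¹, by rw [← hh]; exact inv_smul_smul h x⟩
  choose sec hsec using hrep
  have := Fintype.ofFinite X
  refine ⟨Finsupp.equivFunOnFinite.symm fun x => -f (sec x) x, fun a => ?_⟩
  ext x
  rw [Finsupp.sub_apply, permRep_apply, Finsupp.coe_equivFunOnFinite_symm]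
  set y := (a : G)⁻¹ • x with hy
  have hya : y = a⁻¹ • x := rfl
  have hr : (Quotient.mk S y).out = (Quotient.mk S x).out :=
    congrArg Quotient.out (Quotient.sound (hya ▸ MulAction.mem_orbit x a⁻¹))
  set r := (Quotient.mk S x).out
  have h1 : sec x • r = x := hsec x
  have h2 : sec y • r = y := hr ▸ hsec y
  have hk : ((sec x)⁻¹ * (a * sec y)) • r = r := by
    rw [mul_smul, mul_smul, h2, hya, smul_inv_smul, inv_smul_eq_iff, h1]
  have e1 : f (a * sec y) x = f a x + f (sec y) y := by rw [hval, ← hya]
  have e2 : f (a * sec y) x = f (sec x) x := by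
    conv_lhs => rw [← mul_inv_cancel_left (sec x) (a * sec y)]
    rw [hval, inv_smul_eq_iff.mpr h1.symm, hstab r _ hk, add_zero]
  linarith

end Perm

end Groth.Agent.GLatRes
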